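import Mathlib

/-! Hensel's lemma in a complete ultrametric normed field, and degree one places give embeddings in completions. -/

set_option autoImplicit false

universe u

namespace Groth.AffGal65

open Polynomial IsDedekindDomain NumberField

variable {F : Type*} [NormedField F]

/-- The closed unit ball as a subring. -/
def ball (F : Type*) [NormedField F] [IsUltrametricDist F] : Subring F where
  carrier := {x | ‖x‖ ≤ 1}
  one_mem' := by simp
  zero_mem' := by simp
  mul_mem' {a b} ha hb := by
    simp only [Set.mem_setOf_eq, norm_mul] at *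
    exact mul_le_one₀ ha (norm_nonneg _) hb
  add_mem' {a b} ha hb := le_trans (IsUltrametricDist.norm_add_le_max a b) (max_le ha hb)
  neg_mem' {a} ha := by simpa using ha

theorem hensel [IsUltrametricDist F] [CompleteSpace F] (f : (ball F)[X]) (a : ball F)
    (h0 : ‖((f.eval a : ball F) : F)‖ < 1) (h1 : ‖(((derivative f).eval a : ball F) : F)‖ = 1) :
    ∃ z : F, (f.map (ball F).subtype).IsRoot z := by
  set γ := ‖((f.eval a : ball F) : F)‖ with hγ
  have hne : (((derivative f).eval a : ball F) : F) ≠ 0 := fun h => by simp [h] at h1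
  let u : ball F := ⟨(((derivative f).eval a : ball F) : F)⁻¹, show ‖_‖ ≤ 1 by simp [h1]⟩
  let g : ball F → ball F := fun x => x - u * f.eval x
  let s : ℕ → ball F := fun n => g^[n] a
  have hu1 : ‖(u : F)‖ = 1 := by simp [u, h1]
  have key : ∀ n, ‖((s n : F) - a)‖ ≤ γ ∧ ‖((f.eval (s n) : ball F) : F)‖ ≤ γ ^ (n + 1) := fun n => by
    induction n with
    | zero => simp [s, hγ]
    | succ n ih =>
      have hs : s (n + 1) = s n - u * f.eval (s n) := Function.iterate_succ_apply' g n a
      obtain ⟨z, hz⟩ := Polynomial.binomExpansion f (s n) (-(u * f.eval (s n)))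
      obtain ⟨z', hz'⟩ := sub_dvd_eval_sub (s n) a (derivative f)
      have hpow : γ ^ (n + 1) ≤ γ := pow_le_of_le_one (norm_nonneg _) h0.le (Nat.succ_ne_zero n)
      have hd : ‖((u : F) * ((f.eval (s n) : ball F) : F))‖ ≤ γ ^ (n + 1) := by rw [norm_mul, hu1, one_mul]; exact ih.2
      constructor
      · rw [hs]
        simp only [AddSubgroupClass.coe_sub, Subring.coe_mul]
        rw [sub_right_comm, sub_eq_add_neg]
        refine le_trans (IsUltrametricDist.norm_add_le_max _ _) (max_le ih.1 ?_)
        rw [norm_neg]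
        exact hd.trans hpow
      · rw [hs, sub_eq_add_neg, hz]
        have hval : ((f.eval (s n) + (derivative f).eval (s n) * (-(u * f.eval (s n))) +
            z * (-(u * f.eval (s n))) ^ 2 : ball F) : F) =
            ((f.eval (s n) : ball F) : F) * (-((u : F) * (((s n : F) - a) * z'))) +
              (z : F) * ((u : F) * f.eval (s n)) ^ 2 := by
          have e1 : (((derivative f).eval (s n) : ball F) : F) = (derivative f).eval a + ((s n : F) - a) * z' := by
            have := congrArg (fun x : ball F => (x : F)) hz'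
            simp only [AddSubgroupClass.coe_sub, Subring.coe_mul] at this
            linear_combination this
          have e2 : (u : F) * (((derivative f).eval a : ball F) : F) = 1 := inv_mul_cancel₀ hne
          simp only [Subring.coe_add, Subring.coe_mul, Subring.coe_neg, SubmonoidClass.coe_pow, e1]
          linear_combination -((f.eval (s n) : ball F) : F) * e2
        rw [hval]
        refine le_trans (IsUltrametricDist.norm_add_le_max _ _) (max_le ?_ ?_)
        · rw [norm_mul, norm_neg, norm_mul, hu1, one_mul, norm_mul]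
          calc ‖((f.eval (s n) : ball F) : F)‖ * (‖(s n : F) - a‖ * ‖(z' : F)‖) ≤ γ ^ (n + 1) * (γ * 1) := by
                gcongr
                · exact ih.2
                · exact ih.1
                · exact z'.2
            _ = γ ^ (n + 1 + 1) := by ring
        · rw [norm_mul, norm_pow]
          calc ‖(z : F)‖ * ‖(u : F) * f.eval (s n)‖ ^ 2 ≤ 1 * (γ ^ (n + 1)) ^ 2 := by
                gcongr
                exact z.2
            _ ≤ γ ^ (n + 1 + 1) := by
                rw [one_mul, ← pow_mul]
                exact pow_le_pow_of_le_one (norm_nonneg _) h0.le (by omega)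
  have hstep : ∀ n, dist (s n : F) (s (n + 1) : F) ≤ γ * γ ^ n := fun n => by
    rw [dist_eq_norm, show s (n + 1) = s n - u * f.eval (s n) from Function.iterate_succ_apply' g n a]
    simp only [AddSubgroupClass.coe_sub, Subring.coe_mul, sub_sub_cancel, norm_mul, hu1, one_mul]
    rw [← pow_succ']
    exact (key n).2
  obtain ⟨z, hz⟩ := cauchySeq_tendsto_of_complete (cauchySeq_of_le_geometric γ γ h0 hstep)
  refine ⟨z, ?_⟩
  have hlim : Filter.Tendsto (fun n => (f.map (ball F).subtype).eval (s n : F)) Filter.atTop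
      (nhds ((f.map (ball F).subtype).eval z)) :=
    ((f.map (ball F).subtype).continuous.tendsto z).comp hz
  refine tendsto_nhds_unique hlim ?_
  refine squeeze_zero_norm (a := fun n => γ ^ (n + 1)) (fun n => ?_) ?_
  · rw [show (s n : F) = (ball F).subtype (s n) from rfl, Polynomial.eval_map_apply]
    exact (key n).2
  · exact (tendsto_pow_atTop_nhds_zero_of_lt_one (norm_nonneg _) h0).comp (Filter.tendsto_add_atTop_nat 1)

variable {K M : Type u} [Field K] [NumberField K] [Field M] [NumberField M] [Algebra K M] [IsGalois K M]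

open scoped Pointwise

/-- The decomposition field embeds in the completion. -/
theorem decompositionField_embeds (w : HeightOneSpectrum (𝓞 K)) (P : Ideal (𝓞 M)) [P.IsPrime]
    [P.LiesOver w.asIdeal] :
    Nonempty (IntermediateField.fixedField (MulAction.stabilizer (M ≃ₐ[K] M) P) →ₐ[K] w.adicCompletion K) := by
  classical
  haveI hPmax : P.IsMaximal := Ideal.IsMaximal.of_liesOver_isMaximal P w.asIdeal
  obtain ⟨_⟩ := nonempty_fintype (M ≃ₐ[K] M)
  let D := MulAction.stabilizer (M ≃ₐ[K] M) P
  let J : Ideal (𝓞 M) := ∏ σ ∈ Finset.univ.filter (fun σ : M ≃ₐ[K] M => σ • P ≠ P), σ • P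
  have hJ : IsCoprime P J := by
    refine IsCoprime.prod_right fun σ hσ => ?_
    have hne := (Finset.mem_filter.mp hσ).2
    haveI hσmax : (σ • P).IsMaximal := by
      haveI : (σ • P).LiesOver w.asIdeal := inferInstance
      exact Ideal.IsMaximal.of_liesOver_isMaximal _ w.asIdeal
    exact Ideal.isCoprime_iff_sup_eq.mpr (hPmax.coprime_of_ne hσmax (Ne.symm hne))
  obtain ⟨b, hb, x, hx, hbx⟩ := Ideal.isCoprime_iff_exists.mp hJ
  let θ : 𝓞 M := ∏ d ∈ Finset.univ.filter (fun d : M ≃ₐ[K] M => d • P = P), d • x
  have hθ1 : Ideal.Quotient.mk P θ = 1 := by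
    rw [map_prod]
    refine Finset.prod_eq_one fun d hd => ?_
    rw [Finset.mem_filter] at hd
    have h1 : x = 1 - b := by linear_combination hbx
    rw [h1, smul_sub, smul_one, map_sub, map_one]
    have : d • b ∈ P := by
      rw [← hd.2]
      exact Ideal.smul_mem_pointwise_smul _ _ _ hb
    rw [Ideal.Quotient.eq_zero_iff_mem.mpr this, sub_zero]
  have hθσ : ∀ σ : M ≃ₐ[K] M, σ • P ≠ P → θ ∈ σ • P := fun σ hσ => by
    refine Ideal.prod_mem (I := σ • P) (Finset.mem_filter.mpr ⟨Finset.mem_univ 1, one_smul _ P⟩) ?_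
    rw [one_smul]
    have : J ≤ σ • P := Ideal.prod_le_inf.trans (Finset.inf_le (f := fun σ => σ • P)
      (Finset.mem_filter.mpr ⟨Finset.mem_univ σ, hσ⟩))
    exact this hx
  have hfix : ∀ d : M ≃ₐ[K] M, d • P = P → d • θ = θ := fun d hd => by
    have hd' : d⁻¹ • P = P := by rw [inv_smul_eq_iff, hd]
    rw [Finset.smul_prod']
    refine Finset.prod_bij (fun e _ => d * e) (fun e he => ?_) (fun _ _ _ _ h => mul_left_cancel h)
      (fun e he => ⟨d⁻¹ * e, ?_, by simp⟩) (fun e _ => (mul_smul d e x).symm)
    · rw [Finset.mem_filter] at he ⊢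
      exact ⟨Finset.mem_univ _, by rw [mul_smul, he.2, hd]⟩
    · rw [Finset.mem_filter] at he ⊢
      exact ⟨Finset.mem_univ _, by rw [mul_smul, he.2, hd']⟩
  have hθP : θ ∉ P := fun h => by
    rw [Ideal.Quotient.eq_zero_iff_mem.mpr h] at hθ1
    exact zero_ne_one hθ1
  have hstab : ∀ σ : M ≃ₐ[K] M, σ • θ = θ → σ • P = P := fun σ hσ => by
    by_contra hne
    have h1 := hθσ σ hne
    rw [← hσ, Ideal.smul_mem_pointwise_smul_iff] at h1
    exact hθP h1
  -- the conjugates other than θ lie in P
  have hconj : ∀ σ : M ≃ₐ[K] M, σ • θ ≠ θ → σ • θ ∈ P := fun σ hσ => by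
    have h2 : σ⁻¹ • P ≠ P := fun h => hσ (hfix σ (by rw [inv_smul_eq_iff] at h; exact h.symm))
    have h3 := Ideal.smul_mem_pointwise_smul σ _ _ (hθσ _ h2)
    rwa [smul_inv_smul] at h3
  -- the polynomial
  let ι : 𝓞 M →+* M := algebraMap (𝓞 M) M
  let θM : M := θ
  have hint : IsIntegral (𝓞 K) θ := IsIntegralClosure.isIntegral (𝓞 K) M θ
  let f := minpoly (𝓞 K) θ
  have hfK : f.map (algebraMap (𝓞 K) K) = minpoly K θM :=
    (minpoly.isIntegrallyClosed_eq_field_fractions K M hint).symm
  have hint' : IsIntegral K θM := Algebra.IsIntegral.isIntegral θM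
  have hroots : ∀ r ∈ ((minpoly K θM).map (algebraMap K M)).roots, ∃ σ : M ≃ₐ[K] M, r = ((σ • θ : 𝓞 M) : M) := by
    intro r hr
    rw [Polynomial.mem_roots (Polynomial.map_ne_zero (minpoly.ne_zero hint')), IsRoot.def,
      eval_map_algebraMap] at hr
    have heq : minpoly K θM = minpoly K r := minpoly.eq_of_irreducible_of_monic
      (minpoly.irreducible hint') hr (minpoly.monic hint')
    obtain ⟨σ, hσ⟩ := (Normal.minpoly_eq_iff_mem_orbit M).mp heq.symm
    exact ⟨σ, hσ.symm⟩
  have hsep : ((minpoly K θM).map (algebraMap K M)).roots.Nodup :=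
    Polynomial.nodup_roots (Polynomial.Separable.map (Algebra.IsSeparable.isSeparable K θM))
  have hder : ι (aeval θ (derivative f)) =
      ((((minpoly K θM).map (algebraMap K M)).roots.erase θM).map fun r => θM - r).prod := by
    have hroot : θM ∈ ((minpoly K θM).map (algebraMap K M)).roots := by
      rw [Polynomial.mem_roots (Polynomial.map_ne_zero (minpoly.ne_zero hint')), IsRoot.def,
        eval_map_algebraMap]
      exact minpoly.aeval K θM
    rw [← Polynomial.Splits.eval_root_derivative (Normal.splits inferInstance θM)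
      ((minpoly.monic hint').map _) hroot, derivative_map, eval_map_algebraMap]
    show algebraMap (𝓞 M) M (aeval θ (derivative f)) = _
    rw [← Polynomial.aeval_algebraMap_apply, ← hfK, derivative_map, Polynomial.aeval_map_algebraMap]
  have hnotmem : aeval θ (derivative f) ∉ P := by
    intro hmem
    have : ∃ z : 𝓞 M, ((((minpoly K θM).map (algebraMap K M)).roots.erase θM).map fun r => θM - r).prod = ι z ∧
        Ideal.Quotient.mk P z = 1 := by
      have hall : ∀ r ∈ ((minpoly K θM).map (algebraMap K M)).roots.erase θM,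
          ∃ z : 𝓞 M, θM - r = ι z ∧ Ideal.Quotient.mk P z = 1 := fun r hr => by
        obtain ⟨hne, hr'⟩ := (hsep.mem_erase_iff).mp hr
        obtain ⟨σ, rfl⟩ := hroots r hr'
        refine ⟨θ - σ • θ, (map_sub ι _ _).symm, ?_⟩
        rw [map_sub, hθ1, Ideal.Quotient.eq_zero_iff_mem.mpr (hconj σ fun h => hne (by rw [h])), sub_zero]
      generalize ((minpoly K θM).map (algebraMap K M)).roots.erase θM = R at hall
      induction R using Multiset.induction_on with
      | empty => exact ⟨1, by simp, map_one _⟩
      | cons r R ih =>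
        obtain ⟨z, hz, hz1⟩ := hall r (Multiset.mem_cons_self r R)
        obtain ⟨z', hz', hz1'⟩ := ih fun r' hr' => hall r' (Multiset.mem_cons_of_mem hr')
        exact ⟨z * z', by rw [Multiset.map_cons, Multiset.prod_cons, hz, hz', map_mul], by
          rw [map_mul, hz1, hz1', one_mul]⟩
    obtain ⟨z, hz, hz1⟩ := this
    rw [hz] at hder
    rw [← RingOfIntegers.coe_injective hder, Ideal.Quotient.eq_zero_iff_mem.mpr hmem] at hz1
    exact zero_ne_one hz1
  have hover : ∀ c : 𝓞 K, c ∈ w.asIdeal ↔ Ideal.Quotient.mk P (algebraMap (𝓞 K) (𝓞 M) c) = 0 := fun c => by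
    rw [Ideal.Quotient.eq_zero_iff_mem, Ideal.mem_of_liesOver P w.asIdeal]
  have hev : ∀ q : (𝓞 K)[X], Ideal.Quotient.mk P (algebraMap (𝓞 K) (𝓞 M) (q.eval 1)) =
      Ideal.Quotient.mk P (aeval θ q) := fun q => by
    have e1 : algebraMap (𝓞 K) (𝓞 M) (q.eval 1) = aeval (1 : 𝓞 M) q := by
      rw [← map_one (algebraMap (𝓞 K) (𝓞 M)), Polynomial.aeval_algebraMap_apply_eq_algebraMap_eval]
    rw [e1, Polynomial.aeval_def, Polynomial.aeval_def, Polynomial.hom_eval₂, Polynomial.hom_eval₂, map_one, hθ1]
  have hf1 : f.eval 1 ∈ w.asIdeal := by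
    rw [hover, hev, minpoly.aeval, map_zero]
  have hf2 : (derivative f).eval 1 ∉ w.asIdeal := by
    rw [hover, hev, Ideal.Quotient.eq_zero_iff_mem]
    exact hnotmem
  -- Hensel
  let η : 𝓞 K →+* ball (w.adicCompletion K) :=
    ((FinitePlace.embedding w).comp (algebraMap (𝓞 K) K)).codRestrict _ fun c => FinitePlace.norm_le_one (K := K) w c
  obtain ⟨z, hz⟩ := hensel (f.map η) 1
    (by rw [← map_one η, Polynomial.eval_map_apply]; exact (FinitePlace.norm_lt_one_iff_mem (K := K) w _).mpr hf1)
    (by rw [← map_one η, Polynomial.derivative_map, Polynomial.eval_map_apply]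
        exact (FinitePlace.norm_eq_one_iff_notMem (K := K) w _).mpr hf2)
  have hz' : aeval z (minpoly K θM) = 0 := by
    rw [← hfK, Polynomial.aeval_map_algebraMap, Polynomial.aeval_def]
    rw [IsRoot.def, Polynomial.map_map, Polynomial.eval_map] at hz
    exact hz
  have hz'' : z ∈ (minpoly K θM).aroots (w.adicCompletion K) := by
    rw [Polynomial.mem_aroots]
    exact ⟨minpoly.ne_zero hint', hz'⟩
  let ψ : IntermediateField.adjoin K {θM} →ₐ[K] w.adicCompletion K :=
    (IntermediateField.algHomAdjoinIntegralEquiv K hint').symm ⟨z, hz''⟩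
  have hle : IntermediateField.fixedField D ≤ IntermediateField.adjoin K {θM} := by
    intro y hy
    rw [← IsGalois.fixedField_fixingSubgroup (IntermediateField.adjoin K {θM}), IntermediateField.mem_fixedField_iff]
    intro σ hσ
    rw [IntermediateField.mem_fixedField_iff] at hy
    exact hy σ (hstab σ (RingOfIntegers.coe_injective
      ((IntermediateField.mem_fixingSubgroup_iff _ σ).mp hσ θM (IntermediateField.mem_adjoin_simple_self K θM))))
  exact ⟨ψ.comp (IntermediateField.inclusion hle)⟩

end Groth.AffGal65
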