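import Groth.Agent.AffGal65.Hensel

/-! A transitive affine Galois group on ZMod p: decomposition groups either lie in the translations or fix a point. -/

set_option autoImplicit false

universe u

namespace Groth.AffGal65

open IsDedekindDomain NumberField
open scoped Pointwise

variable {K L M : Type u} [Field K] [NumberField K] [Field L] [NumberField L] [Algebra K L]
  [Field M] [NumberField M] [Algebra K M] [IsGalois K M]

theorem inertia_fix (φ : L →ₐ[K] M) (w : HeightOneSpectrum (𝓞 K))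
    (hur : ∀ P : Ideal (𝓞 L), P.IsPrime → P.LiesOver w.asIdeal → P.ramificationIdx (𝓞 K) = 1)
    (P : Ideal (𝓞 M)) [P.IsPrime] [P.LiesOver w.asIdeal] (σ : M ≃ₐ[K] M) (hσ : σ ∈ P.inertia (M ≃ₐ[K] M))
    (x : L) : σ (φ x) = φ x := by
  letI : Algebra L M := φ.toRingHom.toAlgebra
  haveI : IsScalarTower K L M := IsScalarTower.of_algebraMap_eq fun a => (φ.commutes a).symm
  haveI : IsGalois L M := IsGalois.tower_top_of_isGalois K L M
  haveI : FiniteDimensional L M := FiniteDimensional.right K L M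
  let Q : Ideal (𝓞 L) := P.under (𝓞 L)
  haveI : P.LiesOver Q := ⟨rfl⟩
  haveI : Q.IsPrime := Ideal.IsPrime.under (𝓞 L) P
  haveI : Q.LiesOver w.asIdeal := Ideal.LiesOver.tower_bot P Q w.asIdeal
  have hw : w.asIdeal ≠ ⊥ := w.ne_bot
  haveI : Q.IsMaximal := Ideal.IsMaximal.of_liesOver_isMaximal Q w.asIdeal
  haveI : Finite (𝓞 K ⧸ w.asIdeal) := Ideal.finiteQuotientOfFreeOfNeBot _ hw
  haveI : Finite w.asIdeal.ResidueField := Finite.of_equiv _
    (RingEquiv.ofBijective _ (Ideal.bijective_algebraMap_quotient_residueField w.asIdeal)).toEquiv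
  have hQ : Q ≠ ⊥ := Ideal.ne_bot_of_liesOver_of_ne_bot hw Q
  haveI : Finite (𝓞 L ⧸ Q) := Ideal.finiteQuotientOfFreeOfNeBot _ hQ
  haveI : Finite Q.ResidueField := Finite.of_equiv _
    (RingEquiv.ofBijective _ (Ideal.bijective_algebraMap_quotient_residueField Q)).toEquiv
  have e1 := Ideal.card_inertia_eq_ramificationIdxIn (G := M ≃ₐ[K] M) w.asIdeal P
  have e2 := Ideal.card_inertia_eq_ramificationIdxIn (G := M ≃ₐ[L] M) Q P
  rw [Ideal.ramificationIdxIn_eq_ramificationIdx _ P (M ≃ₐ[K] M)] at e1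
  rw [Ideal.ramificationIdxIn_eq_ramificationIdx _ P (M ≃ₐ[L] M)] at e2
  rw [Ideal.ramificationIdx_tower (R := 𝓞 K) Q P, hur Q inferInstance inferInstance, one_mul, ← e2] at e1
  let ρ : P.inertia (M ≃ₐ[L] M) → P.inertia (M ≃ₐ[K] M) := fun τ => ⟨τ.1.restrictScalars K, fun y => τ.2 y⟩
  have hρ : Function.Bijective ρ := (Nat.bijective_iff_injective_and_card ρ).mpr
    ⟨fun a b h => Subtype.ext (AlgEquiv.ext fun y => DFunLike.congr_fun (congrArg Subtype.val h) y), e1.symm⟩
  obtain ⟨τ, hτ⟩ := hρ.2 ⟨σ, hσ⟩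
  rw [show σ = (ρ τ).1 from (congrArg Subtype.val hτ).symm]
  exact τ.1.commutes x

theorem stabilizer_comm (w : HeightOneSpectrum (𝓞 K)) (P : Ideal (𝓞 M)) [P.IsPrime] [P.LiesOver w.asIdeal]
    (hI : ∀ σ ∈ P.inertia (M ≃ₐ[K] M), σ = 1) (a b : M ≃ₐ[K] M)
    (ha : a ∈ MulAction.stabilizer (M ≃ₐ[K] M) P) (hb : b ∈ MulAction.stabilizer (M ≃ₐ[K] M) P) :
    a * b = b * a := by
  haveI : P.IsMaximal := Ideal.IsMaximal.of_liesOver_isMaximal P w.asIdeal
  haveI : Finite (𝓞 M ⧸ P) := Ideal.finiteQuotientOfFreeOfNeBot _ (Ideal.ne_bot_of_liesOver_of_ne_bot w.ne_bot P)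
  letI := Ideal.Quotient.field P
  letI := Ideal.Quotient.field w.asIdeal
  let h := Ideal.Quotient.stabilizerHom P w.asIdeal (M ≃ₐ[K] M)
  have hc : h (⟨a, ha⟩ * ⟨b, hb⟩) = h (⟨b, hb⟩ * ⟨a, ha⟩) := by
    rw [map_mul, map_mul]
    letI : CommGroup Gal((𝓞 M ⧸ P)/(𝓞 K ⧸ w.asIdeal)) := IsCyclic.commGroup
    exact mul_comm _ _
  have hinj : Function.Injective h := by
    rw [← MonoidHom.ker_eq_bot_iff, eq_bot_iff]
    intro σ hσ
    rw [Ideal.Quotient.ker_stabilizerHom] at hσ
    exact Subtype.ext (hI σ.1 hσ)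
  exact congrArg Subtype.val (hinj hc)

theorem exists_cyclic_subext (p : ℕ) [Fact p.Prime] (e : (L →ₐ[K] M) ≃ ZMod p)
    (haff : ∀ g : M ≃ₐ[K] M, ∃ a b : ZMod p, a ≠ 0 ∧ ∀ φ, e (g.toAlgHom.comp φ) = a * e φ + b)
    (hgen : ∀ g : M ≃ₐ[K] M, (∀ φ : L →ₐ[K] M, g.toAlgHom.comp φ = φ) → g = 1)
    (hnab : IsGalois K L → ∃ σ τ : L ≃ₐ[K] L, σ * τ ≠ τ * σ) :
    ∃ E : IntermediateField K M, IsGalois K E ∧ IsCyclic (E ≃ₐ[K] E) ∧ 1 < Module.finrank K E ∧
      ∀ w : HeightOneSpectrum (𝓞 K),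
        (∀ P : Ideal (𝓞 L), P.IsPrime → P.LiesOver w.asIdeal → P.ramificationIdx (𝓞 K) = 1) →
        Nonempty (E →ₐ[K] w.adicCompletion K) ∨ Nonempty (L →ₐ[K] w.adicCompletion K) := by
  classical
  choose a b ha hab using haff
  have hab' : ∀ g x, e (g.toAlgHom.comp (e.symm x)) = a g * x + b g := fun g x => by
    rw [hab, Equiv.apply_symm_apply]
  have huniq : ∀ g a' b', (∀ φ, e (g.toAlgHom.comp φ) = a' * e φ + b') → a g = a' ∧ b g = b' := fun g a' b' h => by
    have h0 := (hab' g 0).symm.trans (h _)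
    have h1 := (hab' g 1).symm.trans (h _)
    rw [Equiv.apply_symm_apply] at h0 h1
    have hb : b g = b' := by linear_combination h0
    exact ⟨by linear_combination h1 - hb, hb⟩
  have hmul : ∀ g h : M ≃ₐ[K] M, a (g * h) = a g * a h ∧ b (g * h) = a g * b h + b g := fun g h => by
    refine huniq _ _ _ fun φ => ?_
    rw [show (g * h).toAlgHom.comp φ = g.toAlgHom.comp (h.toAlgHom.comp φ) from rfl, hab, hab]
    ring
  have hone : a 1 = 1 := (huniq 1 1 0 fun φ => by
    rw [show (1 : M ≃ₐ[K] M).toAlgHom.comp φ = φ from rfl]; ring).1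
  let χ : (M ≃ₐ[K] M) →* (ZMod p)ˣ :=
    { toFun := fun g => Units.mk0 (a g) (ha g)
      map_one' := Units.ext hone
      map_mul' := fun g h => Units.ext (hmul g h).1 }
  have hχ : ∀ g, g ∈ χ.ker ↔ a g = 1 := fun g => by
    rw [MonoidHom.mem_ker, Units.ext_iff]; rfl
  let E := IntermediateField.fixedField χ.ker
  have e1 := IsGalois.normalAutEquivQuotient (K := K) (L := M) χ.ker
  have hinj : Function.Injective (QuotientGroup.kerLift χ) := QuotientGroup.kerLift_injective χ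
  refine ⟨E, IsGalois.of_fixedField_normal_subgroup χ.ker, ?_, ?_, fun w hw => ?_⟩
  · exact isCyclic_of_injective ((QuotientGroup.kerLift χ).comp e1.symm.toMonoidHom) (hinj.comp e1.symm.injective)
  · by_contra hle
    have hE : E = ⊥ := IntermediateField.finrank_eq_one_iff.mp (le_antisymm (not_lt.mp hle) Module.finrank_pos)
    have htop : χ.ker = ⊤ := by
      rw [← IntermediateField.fixingSubgroup_fixedField χ.ker, show IntermediateField.fixedField χ.ker = ⊥ from hE,
        IntermediateField.fixingSubgroup_bot]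
    have hcomm : ∀ g h : M ≃ₐ[K] M, g * h = h * g := fun g h => by
      have hga : ∀ x, a x = 1 := fun x => (hχ x).mp (htop ▸ Subgroup.mem_top x)
      have key : (h * g)⁻¹ * (g * h) = 1 := hgen _ fun φ => e.injective (by
        have hb : b ((h * g)⁻¹ * (g * h)) = 0 := by
          have h1 := (hmul (h * g) ((h * g)⁻¹ * (g * h))).2
          rw [mul_inv_cancel_left, hga, (hmul g h).2, (hmul h g).2, hga, hga] at h1
          linear_combination -h1
        rw [hab, hga, hb]; ring)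
      rwa [inv_mul_eq_one, eq_comm] at key
    obtain ⟨φ⟩ : Nonempty (L →ₐ[K] M) := ⟨e.symm 0⟩
    haveI : (φ.fieldRange.fixingSubgroup).Normal := ⟨fun n hn g => by rwa [hcomm g n, mul_inv_cancel_right]⟩
    haveI hGN : Normal K φ.fieldRange := by
      rw [← IsGalois.fixedField_fixingSubgroup φ.fieldRange]
      exact (IsGalois.of_fixedField_normal_subgroup _).to_normal
    have f' : φ.fieldRange ≃ₐ[K] L := (AlgEquiv.ofInjectiveField φ).symm
    haveI hLN : Normal K L := Normal.of_algEquiv f'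
    have hGal : IsGalois K L := {}
    letI : Algebra L M := φ.toRingHom.toAlgebra
    haveI : IsScalarTower K L M := IsScalarTower.of_algebraMap_eq fun a => (φ.commutes a).symm
    obtain ⟨σ, τ, hne⟩ := hnab hGal
    obtain ⟨σ', rfl⟩ := AlgEquiv.restrictNormalHom_surjective (F := K) (K₁ := L) M σ
    obtain ⟨τ', rfl⟩ := AlgEquiv.restrictNormalHom_surjective (F := K) (K₁ := L) M τ
    exact hne (by rw [← map_mul, ← map_mul, hcomm])
  · obtain ⟨P, hP, hPw⟩ : ∃ P : Ideal (𝓞 M), P.IsPrime ∧ P.LiesOver w.asIdeal := by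
      obtain ⟨P, hP, hPw⟩ := Ideal.exists_maximal_ideal_liesOver_of_isIntegral (S := 𝓞 M) w.asIdeal
      exact ⟨P, hP.isPrime, hPw⟩
    obtain ⟨ψ⟩ := decompositionField_embeds w P
    have hI : ∀ σ ∈ P.inertia (M ≃ₐ[K] M), σ = 1 := fun σ hσ =>
      hgen σ fun φ => AlgHom.ext fun x => inertia_fix φ w hw P σ hσ x
    by_cases hD : ∀ d ∈ MulAction.stabilizer (M ≃ₐ[K] M) P, a d = 1
    · exact .inl ⟨ψ.comp (IntermediateField.inclusion
        (IntermediateField.fixedField_antitone fun d hd => (hχ d).mpr (hD d hd)))⟩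
    · simp only [not_forall] at hD
      obtain ⟨d, hd, had⟩ := hD
      have h1 : 1 - a d ≠ 0 := sub_ne_zero.mpr (Ne.symm had)
      let φ := e.symm (b d / (1 - a d))
      have hfix : ∀ g ∈ MulAction.stabilizer (M ≃ₐ[K] M) P, g.toAlgHom.comp φ = φ := fun g hg => by
        have hd0 : d.toAlgHom.comp φ = φ := e.injective (by
          rw [hab', Equiv.apply_symm_apply]; field_simp; ring)
        have h2 : d.toAlgHom.comp (g.toAlgHom.comp φ) = g.toAlgHom.comp φ := by
          rw [show d.toAlgHom.comp (g.toAlgHom.comp φ) = (d * g).toAlgHom.comp φ from rfl,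
            stabilizer_comm w P hI d g hd hg, show (g * d).toAlgHom.comp φ = g.toAlgHom.comp (d.toAlgHom.comp φ) from rfl,
            hd0]
        refine e.injective ?_
        rw [show e φ = b d / (1 - a d) from Equiv.apply_symm_apply _ _, eq_div_iff h1]
        linear_combination (congrArg e h2).symm.trans (hab d (g.toAlgHom.comp φ))
      refine .inr ⟨ψ.comp (φ.codRestrict _ fun x => ?_)⟩
      exact fun g => DFunLike.congr_fun (hfix g.1 g.2) x

end Groth.AffGal65
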